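import Cfsg.Agent.Lib.KC.R10.P0
import Cfsg.Agent.Lib.KC.R10.P1
import Cfsg.Agent.Lib.KC.R10.P2
import Cfsg.Agent.Lib.KC.R10.P3
import Cfsg.Agent.Lib.KC.R10.P4
import Cfsg.Agent.Lib.KC.R10.P5
import Cfsg.Agent.Lib.KC.R10.P6
import Cfsg.Agent.Lib.KC.R10.P7
import Cfsg.Agent.Lib.KC.R10.P8
import Cfsg.Agent.Lib.KC.R10.P9
import Cfsg.Agent.Lib.KC.R10.P10
import Cfsg.Agent.Lib.KC.R10.P11
import Cfsg.Agent.Lib.KC.R10.P12
import Cfsg.Agent.Lib.KC.R10.P13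
import Cfsg.Agent.Lib.KC.R10.P14
import Cfsg.Agent.Lib.KC.R10.P15
import Cfsg.Agent.Lib.KC.R10.P16
import Cfsg.Agent.Lib.KC.R10.P17
import Cfsg.Agent.Lib.KC.R10.P18
import Cfsg.Agent.Lib.KC.R10.P19
import Cfsg.Agent.Lib.KC.R10.P20
import Cfsg.Agent.Lib.KC.R10.P21
import Cfsg.Agent.Lib.KC.R10.P22
import Cfsg.Agent.Lib.KC.R10.P23
import Cfsg.Agent.Lib.KC.R10.P24
import Cfsg.Agent.Lib.KC.R10.P25
import Cfsg.Agent.Lib.KC.R10.P26
import Cfsg.Agent.Lib.KC.R10.P27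
import Cfsg.Agent.Lib.KC.R10.P28
import Cfsg.Agent.Lib.KC.R10.P29
import Cfsg.Agent.Lib.KC.R10.P30
import Cfsg.Agent.Lib.KC.R10.P31
import Cfsg.Agent.Lib.KC.R10.P32
import Cfsg.Agent.Lib.KC.R10.P33
import Cfsg.Agent.Lib.KC.R10.P34
import Cfsg.Agent.Lib.KC.R10.P35
import Cfsg.Agent.Lib.KC.R10.P36
import Cfsg.Agent.Lib.KC.R10.P37
import Cfsg.Agent.Lib.KC.R10.P38
import Cfsg.Agent.Lib.KC.R10.P39
import Cfsg.Agent.Lib.KC.R10.P40
import Cfsg.Agent.Lib.KC.R10.P41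
import Cfsg.Agent.Lib.KC.R10.P42
import Cfsg.Agent.Lib.KC.R10.P43
import Cfsg.Agent.Lib.KC.R10.P44
import Cfsg.Agent.Lib.KC.R10.P45
import Cfsg.Agent.Lib.KC.R10.P46
import Cfsg.Agent.Lib.KC.R10.P47
import Cfsg.Agent.Lib.KC.R10.P48
import Cfsg.Agent.Lib.KC.R10.P49
import Cfsg.Agent.Lib.KC.R10.P50
import Cfsg.Agent.Lib.KC.R10.P51
import Cfsg.Agent.Lib.KC.R10.P52
import Cfsg.Agent.Lib.KC.R10.P53
import Cfsg.Agent.Lib.KC.R10.P54
import Cfsg.Agent.Lib.KC.R10.P55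
import Cfsg.Agent.Lib.KC.R10.P56
import Cfsg.Agent.Lib.KC.R10.P57
import Cfsg.Agent.Lib.KC.R10.P58
import Cfsg.Agent.Lib.KC.R10.P59
import Cfsg.Agent.Lib.KC.R10.P60
import Cfsg.Agent.Lib.KC.R10.P61
import Cfsg.Agent.Lib.KC.R10.P62
import Cfsg.Agent.Lib.KC.R10.P63
import Cfsg.Agent.Lib.KC.R10.P64
import Cfsg.Agent.Lib.KC.R10.P65
import Cfsg.Agent.Lib.KC.R10.P66
import Cfsg.Agent.Lib.KC.R10.P67
import Cfsg.Agent.Lib.KC.R10.P68
import Cfsg.Agent.Lib.KC.R10.P69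
import Cfsg.Agent.Lib.KC.R10.P70
import Cfsg.Agent.Lib.KC.R10.P71
import Cfsg.Agent.Lib.KC.R10.P72
import Cfsg.Agent.Lib.KC.R10.P73
import Cfsg.Agent.Lib.KC.R10.P74
import Cfsg.Agent.Lib.KC.R10.P75
import Cfsg.Agent.Lib.KC.R10.P76
import Cfsg.Agent.Lib.KC.R10.P77
import Cfsg.Agent.Lib.KC.R10.P78
import Cfsg.Agent.Lib.KC.R10.P79
import Cfsg.Agent.Lib.KC.R10.P80
import Cfsg.Agent.Lib.KC.R10.P81
import Cfsg.Agent.Lib.KC.R10.P82
import Cfsg.Agent.Lib.KC.R10.P83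
import Cfsg.Agent.Lib.KC.R10.P84
import Cfsg.Agent.Lib.KC.R10.P85
import Cfsg.Agent.Lib.KC.R10.P86
import Cfsg.Agent.Lib.KC.R10.P87
import Cfsg.Agent.Lib.KC.R10.P88
import Cfsg.Agent.Lib.KC.R10.P89
import Cfsg.Agent.Lib.KC.R10.P90
import Cfsg.Agent.Lib.KC.R10.P91
import Cfsg.Agent.Lib.KC.R10.P92
import Cfsg.Agent.Lib.KC.R10.P93
import Cfsg.Agent.Lib.KC.R10.P94
import Cfsg.Agent.Lib.KC.R10.P95

set_option autoImplicit false
set_option maxRecDepth 100000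

namespace Cfsg.Agent.KC.T10

theorem q0 : ∀ j < 12, Part 0 j := by
  intro j hj
  interval_cases j
  exacts [p0_0, p0_1, p0_2, p0_3, p0_4, p0_5, p0_6, p0_7, p0_8, p0_9, p0_10, p0_11]

theorem q1 : ∀ j < 12, Part 1 j := by
  intro j hj
  interval_cases j
  exacts [p1_0, p1_1, p1_2, p1_3, p1_4, p1_5, p1_6, p1_7, p1_8, p1_9, p1_10, p1_11]

theorem q2 : ∀ j < 12, Part 2 j := by
  intro j hj
  interval_cases j
  exacts [p2_0, p2_1, p2_2, p2_3, p2_4, p2_5, p2_6, p2_7, p2_8, p2_9, p2_10, p2_11]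

theorem q3 : ∀ j < 12, Part 3 j := by
  intro j hj
  interval_cases j
  exacts [p3_0, p3_1, p3_2, p3_3, p3_4, p3_5, p3_6, p3_7, p3_8, p3_9, p3_10, p3_11]

theorem q4 : ∀ j < 12, Part 4 j := by
  intro j hj
  interval_cases j
  exacts [p4_0, p4_1, p4_2, p4_3, p4_4, p4_5, p4_6, p4_7, p4_8, p4_9, p4_10, p4_11]

theorem q5 : ∀ j < 12, Part 5 j := by
  intro j hj
  interval_cases j
  exacts [p5_0, p5_1, p5_2, p5_3, p5_4, p5_5, p5_6, p5_7, p5_8, p5_9, p5_10, p5_11]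

theorem q6 : ∀ j < 12, Part 6 j := by
  intro j hj
  interval_cases j
  exacts [p6_0, p6_1, p6_2, p6_3, p6_4, p6_5, p6_6, p6_7, p6_8, p6_9, p6_10, p6_11]

theorem q7 : ∀ j < 12, Part 7 j := by
  intro j hj
  interval_cases j
  exacts [p7_0, p7_1, p7_2, p7_3, p7_4, p7_5, p7_6, p7_7, p7_8, p7_9, p7_10, p7_11]

theorem q8 : ∀ j < 12, Part 8 j := by
  intro j hj
  interval_cases j
  exacts [p8_0, p8_1, p8_2, p8_3, p8_4, p8_5, p8_6, p8_7, p8_8, p8_9, p8_10, p8_11]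

theorem q9 : ∀ j < 12, Part 9 j := by
  intro j hj
  interval_cases j
  exacts [p9_0, p9_1, p9_2, p9_3, p9_4, p9_5, p9_6, p9_7, p9_8, p9_9, p9_10, p9_11]

theorem q10 : ∀ j < 12, Part 10 j := by
  intro j hj
  interval_cases j
  exacts [p10_0, p10_1, p10_2, p10_3, p10_4, p10_5, p10_6, p10_7, p10_8, p10_9, p10_10, p10_11]

theorem q11 : ∀ j < 12, Part 11 j := by
  intro j hj
  interval_cases j
  exacts [p11_0, p11_1, p11_2, p11_3, p11_4, p11_5, p11_6, p11_7, p11_8, p11_9, p11_10, p11_11]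

theorem q12 : ∀ j < 12, Part 12 j := by
  intro j hj
  interval_cases j
  exacts [p12_0, p12_1, p12_2, p12_3, p12_4, p12_5, p12_6, p12_7, p12_8, p12_9, p12_10, p12_11]

theorem q13 : ∀ j < 12, Part 13 j := by
  intro j hj
  interval_cases j
  exacts [p13_0, p13_1, p13_2, p13_3, p13_4, p13_5, p13_6, p13_7, p13_8, p13_9, p13_10, p13_11]

theorem q14 : ∀ j < 12, Part 14 j := by
  intro j hj
  interval_cases j
  exacts [p14_0, p14_1, p14_2, p14_3, p14_4, p14_5, p14_6, p14_7, p14_8, p14_9, p14_10, p14_11]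

theorem q15 : ∀ j < 12, Part 15 j := by
  intro j hj
  interval_cases j
  exacts [p15_0, p15_1, p15_2, p15_3, p15_4, p15_5, p15_6, p15_7, p15_8, p15_9, p15_10, p15_11]

theorem mem {g : ℕ} {L : List En} (A : Ax 9 g L) (F : Lf g L) : (g, L) ∈ sv := by
  refine mem_sv (N := 16) (N' := 12) (n := 12) tab (by decide) (by decide) ?_ A (ord A) F
  intro i hi
  interval_cases i
  exacts [q0, q1, q2, q3, q4, q5, q6, q7, q8, q9, q10, q11, q12, q13, q14, q15]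

end Cfsg.Agent.KC.T10
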