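import Cfsg.Agent.Lib.KC.Fin
import Cfsg.Agent.Lib.KC.T10

set_option autoImplicit false
set_option maxRecDepth 100000

namespace Cfsg.Agent.KC.T10

def sv : List (ℕ × List En) := [
(240, [(3, 1, 3), (4, 1, 8), (4, 1, 8), (4, 1, 8), (10, 1, 10), (2, 1, 16), (5, 2, 20), (2, 1, 40)]),
(240, [(3, 1, 3), (4, 1, 8), (4, 1, 8), (10, 1, 10), (5, 1, 10), (4, 2, 16), (2, 1, 16), (2, 1, 40)]),
(240, [(3, 1, 3), (4, 1, 8), (4, 2, 8), (10, 1, 10), (2, 1, 16), (5, 2, 20), (2, 1, 40)]),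
(240, [(3, 1, 3), (4, 2, 8), (10, 1, 10), (5, 1, 10), (4, 2, 16), (2, 1, 16), (2, 1, 40)]),
(240, [(3, 1, 3), (8, 2, 8), (4, 1, 8), (10, 1, 10), (2, 1, 16), (5, 2, 20), (2, 1, 40)]),
(240, [(3, 1, 3), (8, 2, 8), (10, 1, 10), (5, 1, 10), (4, 2, 16), (2, 1, 16), (2, 1, 40)]),
(336, [(6, 1, 6), (3, 1, 6), (7, 1, 7), (4, 1, 8), (4, 1, 8), (4, 1, 8), (2, 1, 16), (2, 1, 24), (2, 1, 24)]),
(336, [(6, 1, 6), (3, 1, 6), (7, 1, 7), (4, 1, 8), (4, 2, 8), (2, 1, 16), (2, 1, 24), (2, 1, 24)]),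
(336, [(6, 1, 6), (3, 1, 6), (7, 1, 7), (8, 2, 8), (2, 1, 12), (4, 2, 16), (2, 1, 16)]),
(336, [(6, 1, 6), (3, 1, 6), (7, 1, 7), (8, 2, 8), (4, 1, 8), (2, 1, 16), (2, 1, 24), (2, 1, 24)]),
(720, [(5, 1, 5), (4, 1, 8), (4, 1, 8), (4, 1, 8), (4, 1, 8), (3, 1, 9), (4, 2, 16), (2, 1, 16)]),
(720, [(5, 1, 5), (4, 1, 8), (4, 1, 8), (4, 2, 8), (3, 1, 9), (4, 2, 16), (2, 1, 16)]),
(720, [(5, 1, 5), (4, 2, 8), (4, 2, 8), (3, 1, 9), (4, 2, 16), (2, 1, 16)]),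
(720, [(5, 1, 5), (6, 1, 6), (6, 1, 6), (4, 1, 8), (4, 1, 8), (2, 1, 16), (3, 1, 18), (3, 1, 18), (2, 1, 24)]),
(720, [(5, 1, 5), (8, 2, 8), (4, 1, 8), (4, 1, 8), (3, 1, 9), (4, 2, 16), (2, 1, 16)]),
(720, [(5, 1, 5), (8, 2, 8), (4, 2, 8), (3, 1, 9), (4, 2, 16), (2, 1, 16)]),
(720, [(5, 1, 5), (8, 2, 8), (8, 2, 8), (3, 1, 9), (4, 2, 16), (2, 1, 16)]),
(720, [(5, 1, 5), (8, 4, 8), (3, 1, 9), (4, 2, 16), (2, 1, 16)]),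
(756, [(6, 1, 6), (7, 2, 7), (3, 1, 9), (3, 1, 9), (3, 1, 9), (3, 1, 9), (2, 1, 12), (3, 1, 54)]),
(756, [(6, 1, 6), (7, 2, 7), (9, 1, 9), (3, 1, 9), (3, 1, 9), (3, 1, 9), (2, 1, 12), (3, 1, 54)]),
(756, [(6, 1, 6), (7, 2, 7), (9, 1, 9), (9, 1, 9), (3, 1, 9), (3, 1, 9), (2, 1, 12), (3, 1, 54)]),
(756, [(6, 1, 6), (7, 2, 7), (9, 1, 9), (9, 1, 9), (9, 1, 9), (3, 1, 9), (2, 1, 12), (3, 1, 54)]),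
(756, [(6, 1, 6), (7, 2, 7), (9, 1, 9), (9, 1, 9), (9, 1, 9), (9, 1, 9), (2, 1, 12), (3, 1, 54)]),
(756, [(6, 1, 6), (7, 2, 7), (9, 1, 9), (9, 3, 9), (2, 1, 12), (3, 1, 54)]),
(756, [(6, 1, 6), (7, 2, 7), (9, 3, 9), (3, 1, 9), (2, 1, 12), (3, 1, 54)]),
(960, [(3, 1, 3), (5, 2, 5), (4, 1, 8), (2, 1, 16), (4, 1, 32), (4, 2, 64), (2, 1, 64)]),
(960, [(3, 1, 3), (5, 2, 5), (4, 1, 8), (4, 1, 16), (2, 1, 32), (2, 1, 64), (2, 1, 64), (2, 1, 64)]),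
(960, [(3, 1, 3), (5, 2, 5), (4, 1, 16), (4, 1, 16), (2, 1, 16), (4, 1, 32), (4, 1, 32), (2, 1, 64)]),
(960, [(3, 1, 3), (5, 2, 5), (4, 1, 16), (4, 1, 16), (2, 1, 16), (4, 2, 32), (2, 1, 64)]),
(960, [(3, 1, 3), (5, 2, 5), (4, 1, 8), (4, 1, 32), (4, 1, 32), (2, 1, 32), (2, 1, 32), (2, 1, 64)]),
(960, [(3, 1, 3), (5, 2, 5), (4, 1, 16), (4, 1, 16), (4, 1, 16), (2, 1, 32), (2, 1, 32), (2, 1, 64)]),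
(960, [(3, 1, 3), (5, 2, 5), (4, 1, 8), (4, 2, 32), (2, 1, 32), (2, 1, 32), (2, 1, 64)]),
(960, [(3, 1, 3), (5, 2, 5), (4, 1, 16), (4, 2, 16), (2, 1, 32), (2, 1, 32), (2, 1, 64)]),
(960, [(3, 1, 3), (5, 2, 5), (4, 2, 16), (2, 1, 16), (4, 1, 32), (4, 1, 32), (2, 1, 64)]),
(960, [(3, 1, 3), (5, 2, 5), (8, 1, 8), (2, 1, 16), (4, 1, 32), (4, 2, 64), (2, 1, 64)]),
(960, [(3, 1, 3), (5, 2, 5), (8, 1, 8), (4, 1, 16), (2, 1, 32), (2, 1, 64), (2, 1, 64), (2, 1, 64)]),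
(960, [(3, 1, 3), (5, 2, 5), (8, 1, 16), (4, 1, 16), (2, 1, 16), (4, 1, 32), (4, 1, 32), (2, 1, 64)]),
(960, [(3, 1, 3), (5, 2, 5), (8, 1, 16), (4, 1, 16), (2, 1, 16), (4, 2, 32), (2, 1, 64)]),
(960, [(3, 1, 3), (5, 2, 5), (8, 1, 8), (4, 1, 32), (4, 1, 32), (2, 1, 32), (2, 1, 32), (2, 1, 64)]),
(960, [(3, 1, 3), (5, 2, 5), (8, 1, 16), (4, 1, 16), (4, 1, 16), (2, 1, 32), (2, 1, 32), (2, 1, 64)]),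
(960, [(3, 1, 3), (5, 2, 5), (8, 1, 8), (4, 2, 32), (2, 1, 32), (2, 1, 32), (2, 1, 64)]),
(960, [(3, 1, 3), (5, 2, 5), (8, 1, 16), (4, 2, 16), (2, 1, 32), (2, 1, 32), (2, 1, 64)]),
(960, [(3, 1, 3), (5, 2, 5), (8, 1, 16), (8, 1, 16), (2, 1, 16), (4, 1, 32), (4, 1, 32), (2, 1, 64)]),
(960, [(3, 1, 3), (5, 2, 5), (8, 1, 16), (8, 1, 16), (2, 1, 16), (4, 2, 32), (2, 1, 64)]),
(960, [(3, 1, 3), (5, 2, 5), (8, 1, 16), (8, 1, 16), (4, 1, 16), (2, 1, 32), (2, 1, 32), (2, 1, 64)]),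
(960, [(3, 1, 3), (5, 2, 5), (8, 2, 16), (2, 1, 16), (4, 1, 32), (4, 1, 32), (2, 1, 64)]),
(960, [(3, 1, 3), (5, 2, 5), (8, 2, 16), (2, 1, 16), (4, 2, 32), (2, 1, 64)]),
(960, [(3, 1, 3), (5, 2, 5), (8, 2, 16), (4, 1, 16), (2, 1, 32), (2, 1, 32), (2, 1, 64)]),
(1344, [(6, 1, 6), (6, 1, 6), (6, 1, 6), (3, 1, 6), (7, 2, 7), (2, 1, 48), (2, 1, 64), (2, 1, 96)]),
(1344, [(6, 1, 6), (6, 2, 6), (3, 1, 6), (7, 2, 7), (2, 1, 48), (2, 1, 64), (2, 1, 96)]),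
(1512, [(6, 1, 6), (6, 1, 6), (6, 1, 6), (7, 1, 7), (3, 1, 9), (3, 1, 9), (6, 1, 12), (2, 1, 24), (3, 1, 108)]),
(1512, [(6, 1, 6), (6, 1, 6), (6, 1, 6), (7, 1, 7), (3, 2, 9), (6, 1, 12), (2, 1, 24), (3, 1, 108)]),
(1512, [(6, 1, 6), (6, 1, 6), (6, 1, 6), (7, 1, 7), (9, 1, 9), (3, 1, 9), (6, 1, 12), (2, 1, 24), (3, 1, 108)]),
(1512, [(6, 1, 6), (6, 1, 6), (6, 1, 6), (7, 1, 7), (9, 1, 9), (9, 1, 9), (6, 1, 12), (2, 1, 24), (3, 1, 108)]),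
(1512, [(6, 1, 6), (6, 1, 6), (6, 1, 6), (7, 1, 7), (9, 2, 9), (6, 1, 12), (2, 1, 24), (3, 1, 108)]),
(1512, [(6, 1, 6), (6, 2, 6), (7, 1, 7), (3, 1, 9), (3, 1, 9), (6, 1, 12), (2, 1, 24), (3, 1, 108)]),
(1512, [(6, 1, 6), (6, 2, 6), (7, 1, 7), (3, 2, 9), (6, 1, 12), (2, 1, 24), (3, 1, 108)]),
(1512, [(6, 1, 6), (6, 2, 6), (7, 1, 7), (9, 1, 9), (3, 1, 9), (6, 1, 12), (2, 1, 24), (3, 1, 108)]),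
(1512, [(6, 1, 6), (6, 2, 6), (7, 1, 7), (9, 1, 9), (9, 1, 9), (6, 1, 12), (2, 1, 24), (3, 1, 108)]),
(1512, [(6, 1, 6), (6, 2, 6), (7, 1, 7), (9, 2, 9), (6, 1, 12), (2, 1, 24), (3, 1, 108)]),
(1620, [(4, 2, 4), (5, 1, 5), (6, 1, 6), (6, 1, 18), (2, 1, 36), (3, 1, 54), (3, 1, 54), (3, 1, 81)]),
(1620, [(4, 2, 4), (5, 1, 5), (6, 1, 6), (6, 1, 18), (2, 1, 36), (3, 2, 54), (3, 1, 81)]),
(1620, [(4, 2, 4), (5, 1, 5), (6, 1, 6), (6, 1, 18), (3, 1, 27), (2, 1, 36), (3, 1, 162), (3, 1, 162)]),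
(1620, [(4, 2, 4), (5, 1, 5), (6, 1, 6), (6, 1, 18), (3, 1, 27), (2, 1, 36), (3, 2, 162)]),
(1620, [(4, 2, 4), (5, 1, 5), (6, 1, 6), (6, 1, 18), (9, 1, 27), (2, 1, 36), (3, 1, 162), (3, 1, 162)]),
(1620, [(4, 2, 4), (5, 1, 5), (6, 1, 6), (6, 1, 18), (9, 1, 27), (2, 1, 36), (3, 2, 162)]),
(1920, [(5, 1, 5), (6, 1, 6), (3, 1, 6), (4, 1, 8), (4, 1, 8), (4, 1, 8), (4, 1, 16), (2, 1, 48), (2, 1, 128)]),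
(1920, [(5, 1, 5), (6, 1, 6), (3, 1, 6), (4, 1, 8), (4, 2, 8), (4, 1, 16), (2, 1, 48), (2, 1, 128)]),
(1920, [(5, 1, 5), (6, 1, 6), (3, 1, 6), (8, 1, 8), (4, 1, 8), (4, 1, 8), (4, 1, 16), (2, 1, 48), (2, 1, 128)]),
(1920, [(5, 1, 5), (6, 1, 6), (3, 1, 6), (8, 1, 8), (4, 2, 8), (4, 1, 16), (2, 1, 48), (2, 1, 128)]),
(1920, [(5, 1, 5), (6, 1, 6), (3, 1, 6), (8, 1, 8), (8, 1, 8), (4, 1, 8), (4, 1, 16), (2, 1, 48), (2, 1, 128)]),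
(1920, [(5, 1, 5), (6, 1, 6), (3, 1, 6), (8, 1, 8), (8, 1, 8), (8, 1, 8), (4, 1, 16), (2, 1, 48), (2, 1, 128)]),
(1920, [(5, 1, 5), (6, 1, 6), (3, 1, 6), (8, 1, 8), (8, 2, 8), (4, 1, 16), (2, 1, 48), (2, 1, 128)]),
(1920, [(5, 1, 5), (6, 1, 6), (3, 1, 6), (8, 2, 8), (4, 1, 8), (4, 1, 16), (2, 1, 48), (2, 1, 128)]),
(2520, [(4, 1, 4), (5, 1, 5), (7, 2, 7), (3, 1, 9), (6, 1, 12), (2, 1, 24), (3, 2, 72)]),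
(2520, [(4, 1, 4), (5, 1, 5), (7, 2, 7), (3, 1, 9), (6, 1, 12), (3, 1, 36), (2, 1, 36), (2, 1, 72)]),
(2520, [(5, 1, 5), (7, 2, 7), (4, 2, 8), (3, 1, 9), (6, 1, 12), (2, 1, 24), (3, 1, 36)]),
(3840, [(3, 1, 3), (4, 1, 8), (4, 1, 8), (4, 1, 8), (10, 1, 10), (5, 1, 10), (4, 1, 16), (2, 1, 40), (2, 1, 256)]),
(3840, [(3, 1, 3), (4, 1, 8), (4, 1, 8), (10, 1, 10), (10, 1, 10), (10, 1, 10), (5, 1, 10), (2, 1, 80), (2, 1, 256)]),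
(3840, [(3, 1, 3), (4, 1, 8), (4, 1, 8), (10, 1, 10), (10, 2, 10), (5, 1, 10), (2, 1, 80), (2, 1, 256)]),
(3840, [(3, 1, 3), (4, 1, 8), (4, 2, 8), (10, 1, 10), (5, 1, 10), (4, 1, 16), (2, 1, 40), (2, 1, 256)]),
(3840, [(3, 1, 3), (4, 2, 8), (10, 1, 10), (10, 1, 10), (10, 1, 10), (5, 1, 10), (2, 1, 80), (2, 1, 256)]),
(3840, [(3, 1, 3), (4, 2, 8), (10, 1, 10), (10, 2, 10), (5, 1, 10), (2, 1, 80), (2, 1, 256)]),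
(3840, [(3, 1, 3), (8, 1, 8), (4, 1, 8), (4, 1, 8), (10, 1, 10), (5, 1, 10), (4, 1, 16), (2, 1, 40), (2, 1, 256)]),
(3840, [(3, 1, 3), (8, 1, 8), (4, 1, 8), (10, 1, 10), (10, 1, 10), (10, 1, 10), (5, 1, 10), (2, 1, 80), (2, 1, 256)]),
(3840, [(3, 1, 3), (8, 1, 8), (4, 1, 8), (10, 1, 10), (10, 2, 10), (5, 1, 10), (2, 1, 80), (2, 1, 256)]),
(3840, [(3, 1, 3), (8, 1, 8), (4, 2, 8), (10, 1, 10), (5, 1, 10), (4, 1, 16), (2, 1, 40), (2, 1, 256)]),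
(3840, [(3, 1, 3), (8, 1, 8), (8, 1, 8), (4, 1, 8), (10, 1, 10), (5, 1, 10), (4, 1, 16), (2, 1, 40), (2, 1, 256)]),
(3840, [(3, 1, 3), (8, 1, 8), (8, 1, 8), (8, 1, 8), (10, 1, 10), (5, 1, 10), (4, 1, 16), (2, 1, 40), (2, 1, 256)]),
(3840, [(3, 1, 3), (8, 1, 8), (8, 2, 8), (10, 1, 10), (5, 1, 10), (4, 1, 16), (2, 1, 40), (2, 1, 256)]),
(3840, [(3, 1, 3), (8, 2, 8), (4, 1, 8), (10, 1, 10), (5, 1, 10), (4, 1, 16), (2, 1, 40), (2, 1, 256)]),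
(4320, [(5, 1, 5), (6, 1, 6), (6, 1, 6), (6, 1, 6), (4, 1, 8), (4, 1, 8), (2, 1, 48), (3, 1, 54), (2, 1, 96)]),
(4320, [(5, 1, 5), (6, 1, 6), (6, 1, 6), (6, 1, 6), (4, 2, 8), (2, 1, 48), (3, 1, 54), (2, 1, 96)]),
(4320, [(5, 1, 5), (6, 1, 6), (6, 1, 6), (6, 1, 6), (8, 1, 8), (4, 1, 8), (2, 1, 48), (3, 1, 54), (2, 1, 96)]),
(4320, [(5, 1, 5), (6, 1, 6), (6, 2, 6), (4, 1, 8), (4, 1, 8), (2, 1, 48), (3, 1, 54), (2, 1, 96)]),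
(4320, [(5, 1, 5), (6, 1, 6), (6, 2, 6), (4, 2, 8), (2, 1, 48), (3, 1, 54), (2, 1, 96)]),
(4320, [(5, 1, 5), (6, 1, 6), (6, 2, 6), (8, 1, 8), (4, 1, 8), (2, 1, 48), (3, 1, 54), (2, 1, 96)]),
(5600, [(7, 3, 7), (4, 1, 8), (4, 1, 8), (4, 1, 8), (4, 1, 8), (5, 1, 25), (2, 1, 32)]),
(5600, [(7, 3, 7), (4, 1, 8), (4, 1, 8), (4, 2, 8), (5, 1, 25), (2, 1, 32)]),
(5600, [(7, 3, 7), (8, 1, 8), (4, 1, 8), (4, 1, 8), (4, 1, 8), (5, 1, 25), (2, 1, 32)]),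
(5600, [(7, 3, 7), (8, 1, 8), (4, 1, 8), (4, 2, 8), (5, 1, 25), (2, 1, 32)]),
(5600, [(7, 3, 7), (8, 1, 8), (8, 1, 8), (4, 1, 8), (4, 1, 8), (5, 1, 25), (2, 1, 32)]),
(5600, [(7, 3, 7), (8, 1, 8), (8, 1, 8), (4, 2, 8), (5, 1, 25), (2, 1, 32)]),
(5600, [(7, 3, 7), (8, 1, 8), (8, 1, 8), (8, 1, 8), (4, 1, 8), (5, 1, 25), (2, 1, 32)]),
(5600, [(7, 3, 7), (8, 1, 8), (8, 2, 8), (4, 1, 8), (5, 1, 25), (2, 1, 32)]),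
(5600, [(7, 3, 7), (8, 2, 8), (4, 1, 8), (4, 1, 8), (5, 1, 25), (2, 1, 32)]),
(5600, [(7, 3, 7), (8, 2, 8), (4, 2, 8), (5, 1, 25), (2, 1, 32)]),
(6048, [(6, 1, 6), (6, 1, 6), (6, 1, 6), (7, 2, 7), (3, 1, 9), (6, 1, 12), (2, 1, 96), (3, 1, 108)]),
(6048, [(6, 1, 6), (6, 1, 6), (6, 1, 6), (7, 2, 7), (9, 1, 9), (6, 1, 12), (2, 1, 96), (3, 1, 108)]),
(6048, [(6, 1, 6), (6, 2, 6), (7, 2, 7), (3, 1, 9), (6, 1, 12), (2, 1, 96), (3, 1, 108)]),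
(6048, [(6, 1, 6), (6, 2, 6), (7, 2, 7), (9, 1, 9), (6, 1, 12), (2, 1, 96), (3, 1, 108)]),
(7920, [(5, 1, 5), (6, 1, 6), (4, 1, 8), (4, 1, 8), (4, 1, 8), (11, 2, 11), (3, 1, 18), (2, 1, 48)]),
(7920, [(5, 1, 5), (6, 1, 6), (4, 1, 8), (4, 2, 8), (11, 2, 11), (3, 1, 18), (2, 1, 48)]),
(7920, [(5, 1, 5), (6, 1, 6), (8, 2, 8), (4, 1, 8), (11, 2, 11), (3, 1, 18), (2, 1, 48)]),
(15360, [(3, 1, 3), (5, 2, 5), (4, 1, 8), (4, 1, 8), (2, 1, 128), (2, 1, 256), (2, 1, 256), (2, 1, 1024)]),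
(15360, [(3, 1, 3), (5, 2, 5), (4, 1, 8), (4, 1, 16), (4, 1, 16), (2, 1, 128), (2, 1, 128), (2, 1, 1024)]),
(15360, [(3, 1, 3), (5, 2, 5), (4, 1, 8), (4, 1, 16), (4, 1, 32), (4, 1, 32), (2, 1, 64), (2, 1, 1024)]),
(15360, [(3, 1, 3), (5, 2, 5), (4, 1, 16), (4, 1, 16), (4, 1, 16), (4, 1, 16), (2, 1, 64), (2, 1, 1024)]),
(15360, [(3, 1, 3), (5, 2, 5), (4, 1, 8), (4, 1, 16), (4, 2, 32), (2, 1, 64), (2, 1, 1024)]),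
(15360, [(3, 1, 3), (5, 2, 5), (4, 1, 16), (4, 1, 16), (4, 2, 16), (2, 1, 64), (2, 1, 1024)]),
(15360, [(3, 1, 3), (5, 2, 5), (4, 1, 8), (4, 1, 16), (8, 1, 32), (4, 1, 32), (2, 1, 64), (2, 1, 1024)]),
(15360, [(3, 1, 3), (5, 2, 5), (4, 1, 8), (4, 2, 16), (2, 1, 128), (2, 1, 128), (2, 1, 1024)]),
(15360, [(3, 1, 3), (5, 2, 5), (4, 1, 8), (8, 1, 16), (4, 1, 16), (2, 1, 128), (2, 1, 128), (2, 1, 1024)]),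
(15360, [(3, 1, 3), (5, 2, 5), (4, 1, 8), (8, 1, 16), (4, 1, 32), (4, 1, 32), (2, 1, 64), (2, 1, 1024)]),
(15360, [(3, 1, 3), (5, 2, 5), (4, 1, 8), (8, 1, 16), (4, 2, 32), (2, 1, 64), (2, 1, 1024)]),
(15360, [(3, 1, 3), (5, 2, 5), (4, 1, 8), (8, 1, 16), (8, 1, 32), (4, 1, 32), (2, 1, 64), (2, 1, 1024)]),
(15360, [(3, 1, 3), (5, 2, 5), (4, 1, 8), (16, 1, 16), (8, 1, 32), (4, 1, 32), (2, 1, 64), (2, 1, 1024)]),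
(15360, [(3, 1, 3), (5, 2, 5), (4, 2, 8), (2, 1, 128), (2, 1, 256), (2, 1, 256), (2, 1, 1024)]),
(15360, [(3, 1, 3), (5, 2, 5), (4, 2, 16), (4, 2, 16), (2, 1, 64), (2, 1, 1024)]),
(15360, [(3, 1, 3), (5, 2, 5), (8, 1, 8), (4, 1, 8), (2, 1, 128), (2, 1, 256), (2, 1, 256), (2, 1, 1024)]),
(15360, [(3, 1, 3), (5, 2, 5), (8, 1, 8), (4, 1, 16), (4, 1, 16), (2, 1, 128), (2, 1, 128), (2, 1, 1024)]),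
(15360, [(3, 1, 3), (5, 2, 5), (8, 1, 8), (4, 1, 16), (4, 1, 32), (4, 1, 32), (2, 1, 64), (2, 1, 1024)]),
(15360, [(3, 1, 3), (5, 2, 5), (8, 1, 16), (4, 1, 16), (4, 1, 16), (4, 1, 16), (2, 1, 64), (2, 1, 1024)]),
(15360, [(3, 1, 3), (5, 2, 5), (8, 1, 8), (4, 1, 16), (4, 2, 32), (2, 1, 64), (2, 1, 1024)]),
(15360, [(3, 1, 3), (5, 2, 5), (8, 1, 16), (4, 1, 16), (4, 2, 16), (2, 1, 64), (2, 1, 1024)]),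
(15360, [(3, 1, 3), (5, 2, 5), (8, 1, 8), (4, 1, 16), (8, 1, 32), (4, 1, 32), (2, 1, 64), (2, 1, 1024)]),
(15360, [(3, 1, 3), (5, 2, 5), (8, 1, 8), (4, 2, 16), (2, 1, 128), (2, 1, 128), (2, 1, 1024)]),
(15360, [(3, 1, 3), (5, 2, 5), (8, 1, 8), (8, 1, 16), (4, 1, 16), (2, 1, 128), (2, 1, 128), (2, 1, 1024)]),
(15360, [(3, 1, 3), (5, 2, 5), (8, 1, 8), (8, 1, 16), (4, 1, 32), (4, 1, 32), (2, 1, 64), (2, 1, 1024)]),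
(15360, [(3, 1, 3), (5, 2, 5), (8, 1, 16), (8, 1, 16), (4, 1, 16), (4, 1, 16), (2, 1, 64), (2, 1, 1024)]),
(15360, [(3, 1, 3), (5, 2, 5), (8, 1, 8), (8, 1, 16), (4, 2, 32), (2, 1, 64), (2, 1, 1024)]),
(15360, [(3, 1, 3), (5, 2, 5), (8, 1, 16), (8, 1, 16), (4, 2, 16), (2, 1, 64), (2, 1, 1024)]),
(15360, [(3, 1, 3), (5, 2, 5), (8, 1, 8), (8, 1, 16), (8, 1, 32), (4, 1, 32), (2, 1, 64), (2, 1, 1024)]),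
(15360, [(3, 1, 3), (5, 2, 5), (8, 1, 16), (8, 1, 16), (8, 1, 16), (4, 1, 16), (2, 1, 64), (2, 1, 1024)]),
(15360, [(3, 1, 3), (5, 2, 5), (8, 1, 16), (8, 2, 16), (4, 1, 16), (2, 1, 64), (2, 1, 1024)]),
(15360, [(3, 1, 3), (5, 2, 5), (8, 1, 8), (16, 1, 16), (8, 1, 32), (4, 1, 32), (2, 1, 64), (2, 1, 1024)]),
(15360, [(3, 1, 3), (5, 2, 5), (8, 2, 16), (4, 1, 16), (4, 1, 16), (2, 1, 64), (2, 1, 1024)]),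
(15360, [(3, 1, 3), (5, 2, 5), (8, 2, 16), (4, 2, 16), (2, 1, 64), (2, 1, 1024)]),
(15360, [(3, 1, 3), (5, 2, 5), (16, 1, 16), (8, 1, 16), (4, 1, 16), (4, 1, 16), (2, 1, 64), (2, 1, 1024)]),
(15360, [(3, 1, 3), (5, 2, 5), (16, 1, 16), (8, 1, 16), (4, 2, 16), (2, 1, 64), (2, 1, 1024)]),
(15360, [(3, 1, 3), (5, 2, 5), (16, 1, 16), (8, 1, 16), (8, 1, 16), (4, 1, 16), (2, 1, 64), (2, 1, 1024)]),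
(15360, [(3, 1, 3), (5, 2, 5), (16, 1, 16), (8, 2, 16), (4, 1, 16), (2, 1, 64), (2, 1, 1024)]),
(15360, [(3, 1, 3), (5, 2, 5), (16, 1, 16), (16, 1, 16), (8, 1, 16), (4, 1, 16), (2, 1, 64), (2, 1, 1024)]),
(15360, [(3, 1, 3), (5, 2, 5), (16, 2, 16), (8, 1, 16), (4, 1, 16), (2, 1, 64), (2, 1, 1024)]),
(20160, [(5, 2, 5), (7, 2, 7), (3, 1, 9), (4, 1, 16), (4, 1, 16), (4, 1, 16), (2, 1, 64)]),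
(20160, [(5, 2, 5), (7, 2, 7), (3, 1, 9), (4, 1, 16), (4, 2, 16), (2, 1, 64)]),
(20160, [(5, 2, 5), (7, 2, 7), (3, 1, 9), (8, 1, 16), (4, 1, 16), (4, 1, 16), (2, 1, 64)]),
(20160, [(5, 2, 5), (7, 2, 7), (3, 1, 9), (8, 1, 16), (4, 2, 16), (2, 1, 64)]),
(20160, [(5, 2, 5), (7, 2, 7), (3, 1, 9), (8, 1, 16), (8, 1, 16), (4, 1, 16), (2, 1, 64)]),
(20160, [(5, 2, 5), (7, 2, 7), (3, 1, 9), (8, 2, 16), (4, 1, 16), (2, 1, 64)]),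
(20160, [(5, 2, 5), (7, 2, 7), (4, 1, 8), (3, 1, 9), (4, 1, 32), (4, 1, 32), (2, 1, 64)]),
(20160, [(5, 2, 5), (7, 2, 7), (4, 1, 8), (3, 1, 9), (4, 2, 32), (2, 1, 64)]),
(20160, [(5, 2, 5), (7, 2, 7), (8, 1, 8), (3, 1, 9), (4, 1, 32), (4, 1, 32), (2, 1, 64)]),
(20160, [(5, 2, 5), (7, 2, 7), (8, 1, 8), (3, 1, 9), (4, 2, 32), (2, 1, 64)]),
(29120, [(5, 1, 5), (7, 3, 7), (4, 1, 8), (13, 3, 13), (2, 1, 64)]),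
(30720, [(5, 1, 5), (6, 1, 6), (6, 1, 6), (6, 1, 6), (3, 1, 6), (4, 1, 8), (2, 1, 192), (2, 1, 384), (2, 1, 2048)]),
(30720, [(5, 1, 5), (6, 1, 6), (6, 2, 6), (3, 1, 6), (4, 1, 8), (2, 1, 192), (2, 1, 384), (2, 1, 2048)]),
(107520, [(3, 1, 3), (5, 1, 5), (7, 3, 7), (4, 1, 32), (2, 1, 256), (2, 1, 512), (2, 1, 1024)]),
(3932160, [(3, 1, 3), (5, 2, 5), (4, 1, 8), (4, 1, 8), (4, 1, 64), (2, 1, 1024), (2, 1, 16384), (2, 1, 262144)]),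
(3932160, [(3, 1, 3), (5, 2, 5), (4, 1, 8), (4, 1, 8), (4, 1, 64), (2, 1, 1024), (4, 1, 16384), (2, 1, 262144)]),
(3932160, [(3, 1, 3), (5, 2, 5), (4, 1, 8), (4, 1, 8), (8, 1, 64), (2, 1, 1024), (4, 1, 16384), (2, 1, 262144)]),
(3932160, [(3, 1, 3), (5, 2, 5), (4, 2, 8), (4, 1, 64), (2, 1, 1024), (2, 1, 16384), (2, 1, 262144)]),
(3932160, [(3, 1, 3), (5, 2, 5), (4, 2, 8), (4, 1, 64), (2, 1, 1024), (4, 1, 16384), (2, 1, 262144)]),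
(3932160, [(3, 1, 3), (5, 2, 5), (4, 2, 8), (8, 1, 64), (2, 1, 1024), (4, 1, 16384), (2, 1, 262144)]),
(3932160, [(3, 1, 3), (5, 2, 5), (8, 1, 8), (4, 1, 8), (4, 1, 64), (2, 1, 1024), (2, 1, 16384), (2, 1, 262144)]),
(3932160, [(3, 1, 3), (5, 2, 5), (8, 1, 8), (4, 1, 8), (4, 1, 64), (2, 1, 1024), (4, 1, 16384), (2, 1, 262144)]),
(3932160, [(3, 1, 3), (5, 2, 5), (8, 1, 8), (4, 1, 8), (8, 1, 64), (2, 1, 1024), (4, 1, 16384), (2, 1, 262144)]),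
(3932160, [(3, 1, 3), (5, 2, 5), (8, 1, 8), (8, 1, 8), (4, 1, 64), (2, 1, 1024), (2, 1, 16384), (2, 1, 262144)]),
(3932160, [(3, 1, 3), (5, 2, 5), (8, 1, 8), (8, 1, 8), (4, 1, 64), (2, 1, 1024), (4, 1, 16384), (2, 1, 262144)]),
(3932160, [(3, 1, 3), (5, 2, 5), (8, 1, 8), (8, 1, 8), (8, 1, 64), (2, 1, 1024), (4, 1, 16384), (2, 1, 262144)]),
(3932160, [(3, 1, 3), (5, 2, 5), (8, 2, 8), (4, 1, 64), (2, 1, 1024), (2, 1, 16384), (2, 1, 262144)]),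
(3932160, [(3, 1, 3), (5, 2, 5), (8, 2, 8), (4, 1, 64), (2, 1, 1024), (4, 1, 16384), (2, 1, 262144)]),
(3932160, [(3, 1, 3), (5, 2, 5), (8, 2, 8), (8, 1, 64), (2, 1, 1024), (4, 1, 16384), (2, 1, 262144)])]

/-- one part of the search -/
def Part (i j : ℕ) : Prop := go tabs (finB sv) (skipH 16 i 12 j) 12 (st0 9) = true

end Cfsg.Agent.KC.T10
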